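import Cfsg.Agent.Lib.ExtraspecialTwo
import Cfsg.Prelude.Def_Transfer
import Mathlib.GroupTheory.Complement
import Mathlib.Data.ZMod.Basic
import Mathlib.Data.Fintype.Prod

/-!
The automorphism group of an extraspecial `2`-group of plus type and width at least `3` does not split over the
inner automorphisms: two commuting involutions of the orthogonal group have no commuting involutory lifts.
-/

set_option autoImplicit false
set_option linter.unusedSectionVars false

namespace CfsgLib.ExtraNonsplit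

open CfsgLib Cfsg CfsgLib.ExtraTwo

/-- The first three hyperbolic planes. -/
abbrev V3 : Type := (ZMod 2 × ZMod 2 × ZMod 2) × (ZMod 2 × ZMod 2 × ZMod 2)

def b3 (v w : V3) : ZMod 2 := v.2.1 * w.1.1 + v.2.2.1 * w.1.2.1 + v.2.2.2 * w.1.2.2

def B3 (v w : V3) : ZMod 2 := b3 v w + b3 w v

theorem b3_add_left : ∀ u v w : V3, b3 (u + v) w = b3 u w + b3 v w := by
  intro u v w; simp only [b3, Prod.fst_add, Prod.snd_add]; ring

theorem b3_add_right : ∀ u v w : V3, b3 u (v + w) = b3 u v + b3 u w := by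
  intro u v w; simp only [b3, Prod.fst_add, Prod.snd_add]; ring

def gL (v : V3) : V3 :=
  ((v.1.1 + v.1.2.2 + v.2.1 + v.2.2.2, v.1.2.1, v.1.2.2 + v.2.1), (v.2.1, v.2.2.1, v.2.1 + v.2.2.2))

def gφ (v : V3) : ZMod 2 := v.2.1 * v.2.2.2

def hM (v : V3) : V3 :=
  ((v.1.1 + v.2.2.1, v.1.2.1 + v.2.1, v.2.2.2), (v.2.1, v.2.2.1, v.1.2.2))

def hφ (v : V3) : ZMod 2 := v.2.1 * v.2.2.1 + v.1.2.2 * v.2.2.2

def u₁ : V3 := ((1, 0, 0), (0, 0, 0))

/-- A lift of the map `L`, corrected by the inner automorphism of `u`. -/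
def act (L : V3 → V3) (φ : V3 → ZMod 2) (u : V3) (x : V3 × ZMod 2) : V3 × ZMod 2 :=
  (L x.1, x.2 + φ x.1 + B3 u (L x.1))

set_option synthInstance.maxSize 2000 in
set_option synthInstance.maxHeartbeats 400000 in
theorem no_lift : ∀ u : V3, (∀ v : V3, act gL gφ u (act gL gφ u (v, 0)) = (v, 0)) →
    ∀ w : V3, (∀ v : V3, act hM hφ w (act hM hφ w (v, 0)) = (v, 0)) →
      ¬ ∀ v : V3, act gL gφ u (act hM hφ w (v, 0)) = act hM hφ w (act gL gφ u (v, 0)) := by
  decide +kernel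

/-- The remaining hyperbolic planes. -/
abbrev W (m : ℕ) : Type := (Fin m → ZMod 2) × (Fin m → ZMod 2)

def bW {m : ℕ} (v w : W m) : ZMod 2 := ∑ i, v.2 i * w.1 i

theorem bW_add_left {m : ℕ} (u v w : W m) : bW (u + v) w = bW u w + bW v w := by
  simp [bW, add_mul, Finset.sum_add_distrib]

theorem bW_add_right {m : ℕ} (u v w : W m) : bW u (v + w) = bW u v + bW u w := by
  simp [bW, mul_add, Finset.sum_add_distrib]

/-- The plus-type extraspecial group of width `m + 3`. -/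
structure Mdl (m : ℕ) where
  v : V3
  w : W m
  c : ZMod 2

variable {m : ℕ}

theorem Mdl.ext' {x y : Mdl m} (h1 : x.v = y.v) (h2 : x.w = y.w) (h3 : x.c = y.c) : x = y := by
  cases x; cases y; simp_all

def Mdl.equivProd : Mdl m ≃ V3 × W m × ZMod 2 where
  toFun x := (x.v, x.w, x.c)
  invFun x := ⟨x.1, x.2.1, x.2.2⟩
  left_inv _ := rfl
  right_inv _ := rfl

instance : Finite (Mdl m) := Finite.of_equiv _ Mdl.equivProd.symm

instance : Group (Mdl m) where
  mul x y := ⟨x.v + y.v, x.w + y.w, x.c + y.c + b3 x.v y.v + bW x.w y.w⟩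
  one := ⟨0, 0, 0⟩
  inv x := ⟨-x.v, -x.w, -x.c + b3 x.v x.v + bW x.w x.w⟩
  mul_assoc x y z := Mdl.ext' (add_assoc _ _ _) (add_assoc _ _ _) (by
    show x.c + y.c + b3 x.v y.v + bW x.w y.w + z.c + b3 (x.v + y.v) z.v + bW (x.w + y.w) z.w =
      x.c + (y.c + z.c + b3 y.v z.v + bW y.w z.w) + b3 x.v (y.v + z.v) + bW x.w (y.w + z.w)
    rw [b3_add_left, b3_add_right, bW_add_left, bW_add_right]; ring)
  one_mul x := Mdl.ext' (zero_add _) (zero_add _) (by
    show 0 + x.c + b3 0 x.v + bW 0 x.w = x.c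
    simp [b3, bW])
  mul_one x := Mdl.ext' (add_zero _) (add_zero _) (by
    show x.c + 0 + b3 x.v 0 + bW x.w 0 = x.c
    simp [b3, bW])
  inv_mul_cancel x := Mdl.ext' (neg_add_cancel _) (neg_add_cancel _) (by
    show -x.c + b3 x.v x.v + bW x.w x.w + x.c + b3 (-x.v) x.v + bW (-x.w) x.w = 0
    have h1 := b3_add_left (-x.v) x.v x.v
    have h2 := bW_add_left (-x.w) x.w x.w
    rw [neg_add_cancel] at h1 h2
    have e1 : b3 0 x.v = 0 := by simp [b3]
    have e2 : bW 0 x.w = 0 := by simp [bW]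
    linear_combination e1 + e2 - h1 - h2)

theorem mul_v (x y : Mdl m) : (x * y).v = x.v + y.v := rfl
theorem mul_w (x y : Mdl m) : (x * y).w = x.w + y.w := rfl
theorem mul_c (x y : Mdl m) : (x * y).c = x.c + y.c + b3 x.v y.v + bW x.w y.w := rfl

def zM : Mdl m := ⟨0, 0, 1⟩

theorem two_eq_zero (a : ZMod 2) : a + a = 0 := by revert a; decide

theorem commute_iff (x y : Mdl m) :
    x * y = y * x ↔ b3 x.v y.v + bW x.w y.w = b3 y.v x.v + bW y.w x.w := by
  constructor
  · intro h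
    have := congrArg Mdl.c h
    rw [mul_c, mul_c] at this
    linear_combination this
  · intro h
    refine Mdl.ext' (by rw [mul_v, mul_v, add_comm]) (by rw [mul_w, mul_w, add_comm]) ?_
    rw [mul_c, mul_c]
    linear_combination h

theorem conj_apply (x y : Mdl m) :
    MulAut.conj x y = ⟨y.v, y.w, y.c + B3 x.v y.v + (bW x.w y.w + bW y.w x.w)⟩ := by
  rw [MulAut.conj_apply, mul_inv_eq_iff_eq_mul]
  refine Mdl.ext' (by rw [mul_v, mul_v, add_comm]) (by rw [mul_w, mul_w, add_comm]) ?_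
  rw [mul_c, mul_c, B3]
  dsimp only
  linear_combination -(two_eq_zero (b3 y.v x.v)) - (two_eq_zero (bW y.w x.w))

theorem ext2 : Ext2 (Mdl m) zM where
  ne h := absurd (congrArg Mdl.c h) (by show (1 : ZMod 2) ≠ 0; decide)
  center_iff g := by
    constructor
    · intro hg
      have key : ∀ y : Mdl m, b3 g.v y.v + bW g.w y.w = b3 y.v g.v + bW y.w g.w := fun y =>
        ((commute_iff y g).1 (Subgroup.mem_center_iff.1 hg y)).symm
      have hv : g.v = 0 := by
        have h : ∀ a : V3, (∀ b : V3, b3 a b = b3 b a) → a = 0 := by decide +kernel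
        exact h _ fun b => by simpa [bW] using key ⟨b, 0, 0⟩
      have hw : g.w = 0 := by
        refine Prod.ext (funext fun i => ?_) (funext fun i => ?_)
        · have h := key ⟨0, (0, Pi.single i 1), 0⟩
          simpa [b3, bW, Pi.single_apply, hv] using h.symm
        · have h := key ⟨0, (Pi.single i 1, 0), 0⟩
          simpa [b3, bW, Pi.single_apply, hv] using h
      have hc : ∀ c : ZMod 2, c = 0 ∨ c = 1 := by decide
      rcases hc g.c with h | h
      · exact Or.inl (Mdl.ext' hv hw h)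
      · exact Or.inr (Mdl.ext' hv hw h)
    · rintro (rfl | rfl)
      · exact one_mem _
      · exact Subgroup.mem_center_iff.2 fun y => (commute_iff y zM).2 (by simp [zM, b3, bW])
  sq g := by
    have hv : ∀ a : V3, a + a = 0 := fun a => by
      refine Prod.ext (Prod.ext ?_ (Prod.ext ?_ ?_)) (Prod.ext ?_ (Prod.ext ?_ ?_)) <;> exact two_eq_zero _
    have hw : g.w + g.w = 0 := Prod.ext (funext fun i => two_eq_zero _) (funext fun i => two_eq_zero _)
    have hc : ∀ c : ZMod 2, c = 0 ∨ c = 1 := by decide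
    rcases hc (g * g).c with h | h
    · exact Or.inl (Mdl.ext' (hv g.v) hw h)
    · exact Or.inr (Mdl.ext' (hv g.v) hw h)

theorem card_eq : Nat.card (Mdl m) = 2 ^ (2 * (m + 3) + 1) := by
  rw [Nat.card_congr Mdl.equivProd]
  simp only [Nat.card_prod, Nat.card_fun, Nat.card_zmod, Nat.card_fin]
  ring

def elem : Subgroup (Mdl m) where
  carrier := {x | x.v.2 = 0 ∧ x.w.2 = 0}
  one_mem' := ⟨rfl, rfl⟩
  mul_mem' {x y} hx hy := ⟨by show x.v.2 + y.v.2 = 0; rw [hx.1, hy.1, add_zero],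
    by show x.w.2 + y.w.2 = 0; rw [hx.2, hy.2, add_zero]⟩
  inv_mem' {x} hx := ⟨by show -x.v.2 = 0; rw [hx.1, neg_zero], by show -x.w.2 = 0; rw [hx.2, neg_zero]⟩

theorem rootCount_eq_plus : rootCount (Mdl m) = 2 ^ (2 * (m + 3)) + 2 ^ (m + 3) := by
  have hb : ∀ x ∈ (elem : Subgroup (Mdl m)), ∀ y : Mdl m, b3 x.v y.v = 0 ∧ bW x.w y.w = 0 := fun x hx y => by
    constructor
    · simp [b3, hx.1]
    · simp [bW, hx.2]
  refine (card_elementary_le ext2 card_eq (A := elem) ⟨⟨fun a b => Subtype.ext ?_⟩⟩ fun a ha => ?_).2 ?_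
  · exact (commute_iff (a : Mdl m) (b : Mdl m)).2 (by
      rw [(hb a a.2 b).1, (hb a a.2 b).2, (hb b b.2 a).1, (hb b b.2 a).2])
  · rw [pow_two]
    refine Mdl.ext' ?_ (Prod.ext (funext fun i => two_eq_zero _) (funext fun i => two_eq_zero _)) ?_
    · show a.v + a.v = 0
      refine Prod.ext (Prod.ext ?_ (Prod.ext ?_ ?_)) (Prod.ext ?_ (Prod.ext ?_ ?_)) <;> exact two_eq_zero _
    · rw [mul_c, (hb a ha a).1, (hb a ha a).2, two_eq_zero, add_zero, add_zero]; rfl
  · let e : (elem : Subgroup (Mdl m)) ≃ (ZMod 2 × ZMod 2 × ZMod 2) × (Fin m → ZMod 2) × ZMod 2 :=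
      { toFun := fun x => (x.1.v.1, x.1.w.1, x.1.c)
        invFun := fun x => ⟨⟨(x.1, 0), (x.2.1, 0), x.2.2⟩, rfl, rfl⟩
        left_inv := fun x => Subtype.ext (Mdl.ext' (Prod.ext rfl x.2.1.symm) (Prod.ext rfl x.2.2.symm) rfl)
        right_inv := fun x => rfl }
    rw [Nat.card_congr e]
    simp only [Nat.card_prod, Nat.card_fun, Nat.card_zmod, Nat.card_fin]
    ring

/-- The lift of a map of the first three planes. -/
noncomputable def lift (L : V3 → V3) (φ : V3 → ZMod 2) (hL : ∀ v w, L (v + w) = L v + L w)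
    (hi : Function.Injective L) (hφ : ∀ v w, φ (v + w) + b3 v w = φ v + φ w + b3 (L v) (L w)) :
    MulAut (Mdl m) :=
  MulEquiv.ofBijective (MonoidHom.mk' (fun x => (⟨L x.v, x.w, x.c + φ x.v⟩ : Mdl m)) fun x y =>
      Mdl.ext' (hL _ _) rfl (by
        simp only [mul_c, mul_v]
        linear_combination hφ x.v y.v))
    (Finite.injective_iff_bijective.1 fun x y h => by
      have h1 : x.v = y.v := hi (congrArg Mdl.v h)
      refine Mdl.ext' h1 (congrArg Mdl.w h :) ?_
      have h2 : x.c + φ x.v = y.c + φ y.v := congrArg Mdl.c h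
      rw [h1] at h2
      exact add_right_cancel h2)

theorem not_complement (n : ℕ) (hn : 3 ≤ n) {Q : Type*} [Group Q] [Finite Q] (hQ : Cfsg.IsExtraspecial 2 Q)
    (hcard : Nat.card Q = 2 ^ (2 * n + 1))
    (hplus : ∃ E : Subgroup Q, (∀ x ∈ E, ∀ y ∈ E, x * y = y * x) ∧ (∀ x ∈ E, x ^ 2 = 1) ∧ Nat.card E = 2 ^ (n + 1))
    (L : Subgroup (MulAut Q)) : ¬ (MulAut.conj : Q →* MulAut Q).range.IsComplement' L := by
  intro hL
  obtain ⟨z, hz⟩ := ofExtraspecial hQ
  obtain ⟨A, hAc, hA2, hAcard⟩ := hplus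
  obtain ⟨k, rfl⟩ : ∃ k, n = k + 3 := ⟨n - 3, by omega⟩
  have hr := (card_elementary_le hz hcard (A := A) ⟨⟨fun a b => Subtype.ext (hAc a a.2 b b.2)⟩⟩ hA2).2 hAcard
  obtain ⟨e⟩ := nonempty_equiv _ (Mdl k) Q zM z card_eq hcard ext2 hz
    (rootCount_eq_plus.trans hr.symm)
  let T : MulAut (Mdl k) ≃* MulAut Q := MulAut.congr e
  have hT : ∀ x, T (MulAut.conj x) = MulAut.conj (e x) := fun x => MulEquiv.ext fun y => by
    simp [T, MulAut.congr]
  set L' := L.comap T.toMonoidHom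
  have hdis : ∀ α ∈ L', ∀ x, α = MulAut.conj x → α = 1 := by
    intro α hα x hx
    have h := Subgroup.disjoint_def.1 hL.disjoint ⟨e x, (hT x).symm⟩ (hx ▸ hα : T (MulAut.conj x) ∈ L)
    rw [← hx] at h
    exact T.injective (h.trans (map_one T).symm)
  have hex : ∀ α : MulAut (Mdl k), ∃ x, MulAut.conj x * α ∈ L' := by
    intro α
    obtain ⟨⟨⟨i, hi⟩, ⟨l, hl⟩⟩, he⟩ := hL.existsUnique (T α) |>.exists
    obtain ⟨y, rfl⟩ := hi
    refine ⟨(e.symm y)⁻¹, ?_⟩
    show T (MulAut.conj _ * α) ∈ L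
    rw [map_mul, hT, map_inv, e.apply_symm_apply, ← (show MulAut.conj y * l = T α from he), map_inv,
      inv_mul_cancel_left]
    exact hl
  set ga : MulAut (Mdl k) := lift gL gφ (by decide +kernel) (by decide +kernel) (by decide +kernel)
  set hb : MulAut (Mdl k) := lift hM hφ (by decide +kernel) (by decide +kernel) (by decide +kernel)
  have hga : ga * ga = MulAut.conj ⟨u₁, 0, 0⟩ := MulEquiv.ext fun x => by
    have h : ∀ v : V3, gL (gL v) = v ∧ gφ v + gφ (gL v) = B3 u₁ v := by decide +kernel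
    rw [conj_apply]
    refine Mdl.ext' (h x.v).1 rfl ?_
    show x.c + gφ x.v + gφ (gL x.v) = _
    simp [bW, add_assoc, (h x.v).2]
  have hhb : hb * hb = 1 := MulEquiv.ext fun x => by
    have h : ∀ v : V3, hM (hM v) = v ∧ hφ v + hφ (hM v) = 0 := by decide +kernel
    refine Mdl.ext' (h x.v).1 rfl ?_
    show x.c + hφ x.v + hφ (hM x.v) = x.c
    rw [add_assoc, (h x.v).2, add_zero]
  have hgh : ga * hb = MulAut.conj ⟨u₁, 0, 0⟩ * (hb * ga) := MulEquiv.ext fun x => by
    have h : ∀ v : V3, gL (hM v) = hM (gL v) ∧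
        hφ v + gφ (hM v) = gφ v + hφ (gL v) + B3 u₁ (hM (gL v)) := by decide +kernel
    show ga (hb x) = MulAut.conj _ (hb (ga x))
    rw [conj_apply]
    refine Mdl.ext' (h x.v).1 rfl ?_
    show x.c + hφ x.v + gφ (hM x.v) = x.c + gφ x.v + hφ (gL x.v) + B3 u₁ (hM (gL x.v)) + _
    simp [bW, add_assoc]
    exact (h x.v).2.trans (by ring)
  obtain ⟨xa, hxa⟩ := hex ga
  obtain ⟨xb, hxb⟩ := hex hb
  have hcn : ∀ (α : MulAut (Mdl k)) (x : Mdl k), α * MulAut.conj x = MulAut.conj (α x) * α := fun α x =>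
    MulEquiv.ext fun y => by simp [MulAut.conj_apply]
  set a := MulAut.conj xa * ga with ha
  set b := MulAut.conj xb * hb with hb'
  have haa : a * a = 1 := hdis _ (mul_mem hxa hxa) (xa * ga xa * ⟨u₁, 0, 0⟩) (by
    rw [ha, map_mul, map_mul, ← hga, mul_assoc (MulAut.conj xa), ← mul_assoc ga, hcn]
    simp only [mul_assoc])
  have hbb : b * b = 1 := hdis _ (mul_mem hxb hxb) (xb * hb xb) (by
    rw [hb', map_mul, mul_assoc (MulAut.conj xb), ← mul_assoc hb, hcn]
    simp only [mul_assoc, hhb, mul_one])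
  have hab : a * b = b * a := by
    have hainv : a⁻¹ = a := inv_eq_of_mul_eq_one_left haa
    have hbinv : b⁻¹ = b := inv_eq_of_mul_eq_one_left hbb
    have h : a * b * (b * a)⁻¹ = 1 := by
      refine hdis _ (mul_mem (mul_mem hxa hxb) (inv_mem (mul_mem hxb hxa)))
        (xa * ga xb * ⟨u₁, 0, 0⟩ * (xb * hb xa)⁻¹) ?_
      have e1 : a * b = MulAut.conj (xa * ga xb) * (ga * hb) := by
        rw [ha, hb', map_mul, mul_assoc (MulAut.conj xa), ← mul_assoc ga, hcn]
        simp only [mul_assoc]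
      have e2 : b * a = MulAut.conj (xb * hb xa) * (hb * ga) := by
        rw [ha, hb', map_mul, mul_assoc (MulAut.conj xb), ← mul_assoc hb, hcn]
        simp only [mul_assoc]
      rw [e1, e2, hgh]
      simp only [map_mul, map_inv]
      group
    exact mul_inv_eq_one.1 h
  have eva : ∀ (v : V3) (c : ZMod 2),
      a ⟨v, 0, c⟩ = ⟨(act gL gφ xa.v (v, c)).1, 0, (act gL gφ xa.v (v, c)).2⟩ := fun v c => by
    show MulAut.conj xa (ga ⟨v, 0, c⟩) = _
    rw [conj_apply]
    refine Mdl.ext' rfl rfl ?_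
    show c + gφ v + B3 xa.v (gL v) + (bW xa.w 0 + bW 0 xa.w) = _
    simp [act, bW]
  have evb : ∀ (v : V3) (c : ZMod 2),
      b ⟨v, 0, c⟩ = ⟨(act hM hφ xb.v (v, c)).1, 0, (act hM hφ xb.v (v, c)).2⟩ := fun v c => by
    show MulAut.conj xb (hb ⟨v, 0, c⟩) = _
    rw [conj_apply]
    refine Mdl.ext' rfl rfl ?_
    show c + hφ v + B3 xb.v (hM v) + (bW xb.w 0 + bW 0 xb.w) = _
    simp [act, bW]
  refine no_lift xa.v (fun v => ?_) xb.v (fun v => ?_) fun v => ?_
  · have h := congrArg (fun f : MulAut (Mdl k) => f ⟨v, 0, 0⟩) haa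
    rw [MulAut.mul_apply, eva, eva, MulAut.one_apply] at h
    exact Prod.ext (congrArg Mdl.v h :) (congrArg Mdl.c h :)
  · have h := congrArg (fun f : MulAut (Mdl k) => f ⟨v, 0, 0⟩) hbb
    rw [MulAut.mul_apply, evb, evb, MulAut.one_apply] at h
    exact Prod.ext (congrArg Mdl.v h :) (congrArg Mdl.c h :)
  · have h := congrArg (fun f : MulAut (Mdl k) => f ⟨v, 0, 0⟩) hab
    simp only [MulAut.mul_apply, eva, evb] at h
    exact Prod.ext (congrArg Mdl.v h :) (congrArg Mdl.c h :)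

end CfsgLib.ExtraNonsplit
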